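import Groth.Agent.Lib.CohDelta.SerreRel
import Groth.Agent.Lib.QCoh.Closure
import Groth.Agent.Lib.CohBasics.Closure
import Mathlib.RingTheory.Ideal.AssociatedPrime.Finiteness
import Mathlib.RingTheory.Finiteness.Nakayama

/-!
# Acyclic modules with finite global sections on a quasi-affine scheme

On a scheme `V` covered by affine non-vanishing loci of global functions from an ideal `I`, a
quasi-coherent module with vanishing higher cohomology and finite global sections is killed by some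
`1 - a`, `a ∈ I`.
-/

set_option autoImplicit false
set_option linter.style.haveILetI false

universe u

open CategoryTheory CategoryTheory.Limits AlgebraicGeometry Opposite TopologicalSpace
open CategoryTheory.Abelian
open Groth.Agent.Lib
open Groth.Agent.Lib.ZarCoh.Basic Groth.Agent.Lib.CohDelta.Basic
open Groth.Agent.Lib.QCoh.Localizing

namespace Groth.Agent.Lib.AcycFin27.Key

/-- Vanishing of `Ext` of the third term of a short exact sequence. -/
theorem ext_X₃ {A : Type*} [Category A] [Abelian A] [HasExt.{u} A] (X : A) {S : ShortComplex A}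
    (hS : S.ShortExact) (n : ℕ) (h₁ : Subsingleton (Ext.{u} X S.X₁ (n + 1)))
    (h₂ : Subsingleton (Ext.{u} X S.X₂ n)) : Subsingleton (Ext.{u} X S.X₃ n) := by
  refine subsingleton_of_forall_eq 0 fun w => ?_
  obtain ⟨y, hy⟩ := Ext.covariant_sequence_exact₃ X hS w (n₁ := n + 1) rfl (h₁.elim _ _)
  rw [← hy, h₂.elim y 0, Ext.zero_comp]

variable {V : Scheme.{u}}

/-- Multiplication by a global function. -/
noncomputable def scal (M : V.Modules) (r : Γ(V, ⊤)) : M ⟶ M :=
  ⟨PresheafOfModules.homMk (Coh.smulAb M r).hom fun U a m => by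
    change Coh.resTop V U r • a • m = a • Coh.resTop V U r • m
    rw [smul_smul, smul_smul]
    exact congrArg (· • m) (mul_comm (show V.presheaf.obj U from Coh.resTop V U r)
      (show V.presheaf.obj U from a))⟩

lemma scal_app (M : V.Modules) (r : Γ(V, ⊤)) (U : V.Opens) (m : Γ(M, U)) :
    (scal M r).app U m = resR (le_top (a := U)) r • m := rfl

lemma unit_res {U : V.Opens} (f : Γ(V, U)) : IsUnit (resR (V.basicOpen_le f) f) :=
  RingedSpace.isUnit_res_basicOpen _ f

lemma smul_eq_zero_basicOpen {M : V.Modules} {U : V.Opens} {f : Γ(V, U)} (h : Extends M f)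
    {r : Γ(V, U)} (hr : ∀ m : Γ(M, U), r • m = 0) (s : Γ(M, V.basicOpen f)) :
    resR (V.basicOpen_le f) r • s = 0 := by
  obtain ⟨n, t, ht⟩ := h s
  have hu : IsUnit (resR (V.basicOpen_le f) f ^ n) :=
    (unit_res f).pow n
  refine hu.smul_eq_zero.1 ?_
  rw [smul_comm, ← ht, ← res_smul, hr, map_zero]

lemma regular_basicOpen {M : V.Modules} {U : V.Opens} {f : Γ(V, U)} (h : Localizes M f)
    {r : Γ(V, U)} (hr : ∀ m : Γ(M, U), r • m = 0 → m = 0) (s : Γ(M, V.basicOpen f))
    (hs : resR (V.basicOpen_le f) r • s = 0) : s = 0 := by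
  obtain ⟨n, t, ht⟩ := h.ext' s
  have hu : IsUnit (resR (V.basicOpen_le f) f ^ n) :=
    (unit_res f).pow n
  have h0 : res M (V.basicOpen_le f) (r • t) = 0 := by
    rw [res_smul, ht, smul_comm, hs, smul_zero]
  obtain ⟨k, hk⟩ := h.sep _ h0
  rw [smul_comm] at hk
  have h1 : f ^ k • t = 0 := hr _ hk
  have h2 : resR (V.basicOpen_le f) f ^ k • (resR (V.basicOpen_le f) f ^ n • s) = 0 := by
    rw [← ht, ← map_pow, ← res_smul, h1, map_zero]
  exact hu.smul_eq_zero.1 (((unit_res f).pow k).smul_eq_zero.1 h2)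

variable [CompactSpace V] [QuasiSeparatedSpace V]

/-- A property of sections that passes from the top to the members of an affine cover by
non-vanishing loci of global functions, and to their basic opens, holds locally. -/
lemma localizes_top (M : V.Modules) [M.IsQuasicoherent] (f : Γ(V, ⊤)) : Localizes M f :=
  localizes_of_qcqs M (CompactSpace.isCompact_univ)
    (isQuasiSeparated_univ) f

omit [CompactSpace V] [QuasiSeparatedSpace V] in
lemma eq_zero_of_locally {M : V.Modules} {O : V.Opens} (s : Γ(M, O))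
    (h : ∀ x ∈ O, ∃ (W : V.Opens) (hW : W ≤ O), x ∈ W ∧ res M hW s = 0) : s = 0 := by
  choose W hW hxW hz using h
  refine TopCat.Sheaf.eq_of_locally_eq' (⟨M.presheaf, M.isSheaf⟩ : TopCat.Sheaf Ab V)
    (fun x : O => W x.1 x.2) O (fun x => homOfLE (hW x.1 x.2))
    (fun y hy => Opens.mem_iSup.2 ⟨⟨y, hy⟩, hxW y hy⟩) s 0 fun x => ?_
  rw [map_zero]
  exact hz x.1 x.2

section Cover

variable {B : Type u} [CommRing B] (ψ : B →+* Γ(V, ⊤)) (I : Ideal B)

/-- `V` is covered by affine non-vanishing loci of elements of `I`. -/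
def Cov : Prop :=
  ∀ x : V, ∃ g ∈ I, x ∈ V.basicOpen (ψ g) ∧ IsAffineOpen (V.basicOpen (ψ g))

variable {ψ I} (hcov : Cov ψ I) {M : V.Modules} [M.IsQuasicoherent]

include hcov

lemma smul_eq_zero_of_top {r : Γ(V, ⊤)} (hr : ∀ m : Γ(M, ⊤), r • m = 0) {O : V.Opens}
    (s : Γ(M, O)) : resR (le_top (a := O)) r • s = 0 := by
  refine eq_zero_of_locally _ fun x hx => ?_
  obtain ⟨g, -, hxg, hD⟩ := hcov x
  obtain ⟨h, hle, hxh⟩ := hD.exists_basicOpen_le (V := O) ⟨x, hx⟩ hxg
  refine ⟨V.basicOpen h, hle, hxh, ?_⟩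
  have h1 : ∀ m : Γ(M, V.basicOpen (ψ g)), resR (V.basicOpen_le (ψ g)) r • m = 0 :=
    fun m => smul_eq_zero_basicOpen (localizes_top M (ψ g)).ext' hr m
  have h2 := smul_eq_zero_basicOpen (localizes_of_isAffineOpen M hD h).ext' h1 (res M hle s)
  rw [resR_resR] at h2
  rw [res_smul, resR_resR]
  exact h2

lemma regular_of_top {r : Γ(V, ⊤)} (hr : ∀ m : Γ(M, ⊤), r • m = 0 → m = 0) {O : V.Opens}
    (s : Γ(M, O)) (hs : resR (le_top (a := O)) r • s = 0) : s = 0 := by
  refine eq_zero_of_locally _ fun x hx => ?_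
  obtain ⟨g, -, hxg, hD⟩ := hcov x
  obtain ⟨h, hle, hxh⟩ := hD.exists_basicOpen_le (V := O) ⟨x, hx⟩ hxg
  refine ⟨V.basicOpen h, hle, hxh, ?_⟩
  have h1 : ∀ m : Γ(M, V.basicOpen (ψ g)), resR (V.basicOpen_le (ψ g)) r • m = 0 → m = 0 :=
    fun m => regular_basicOpen (localizes_top M (ψ g)) hr m
  refine regular_basicOpen (localizes_of_isAffineOpen M hD h) h1 (res M hle s) ?_
  have h2 := congrArg (res M hle) hs
  rw [res_smul, resR_resR, map_zero] at h2
  rw [resR_resR]
  exact h2

omit [CompactSpace V] [QuasiSeparatedSpace V] [M.IsQuasicoherent] in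
lemma eq_zero_of_forall_smul (m : Γ(M, ⊤)) (hm : ∀ g ∈ I, ψ g • m = 0) : m = 0 := by
  refine eq_zero_of_locally _ fun x _ => ?_
  obtain ⟨g, hg, hxg, -⟩ := hcov x
  refine ⟨V.basicOpen (ψ g), le_top, hxg, ?_⟩
  have h1 := congrArg (res M (le_top (a := V.basicOpen (ψ g)))) (hm g hg)
  rw [res_smul, map_zero] at h1
  exact (unit_res (ψ g)).smul_eq_zero.1 h1

end Cover

/-- The higher cohomology of `M` vanishes. -/
def Acyc (M : V.Modules) : Prop :=
  ∀ q : ℕ, Subsingleton (Ext.{u} (Zs.obj (⊤ : V.Opens)) (Coh.toAb M) (q + 1))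

omit [CompactSpace V] [QuasiSeparatedSpace V] in
lemma acyc_X₃ {S : ShortComplex V.Modules} (hS : S.ShortExact) (h₁ : Acyc S.X₁)
    (h₂ : Acyc S.X₂) : Acyc S.X₃ := fun q =>
  ext_X₃ (Zs.obj (⊤ : V.Opens)) (S := abS S) (abS_shortExact hS) (q + 1) (h₁ (q + 1)) (h₂ q)

theorem exists_one_sub_smul_eq_zero {B : Type u} [CommRing B] [IsNoetherianRing B]
    (ψ : B →+* Γ(V, ⊤)) (I : Ideal B) (hcov : Cov ψ I) (M : V.Modules) [M.IsQuasicoherent]
    (hac : Acyc M) (hfin : letI := Module.compHom Γ(M, ⊤) ψ; Module.Finite B Γ(M, ⊤)) :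
    ∃ a ∈ I, ∀ m : Γ(M, ⊤), (1 - ψ a) • m = 0 := by
  letI := Module.compHom Γ(M, ⊤) ψ
  generalize hJ : Module.annihilator B Γ(M, ⊤) = J
  induction J using WellFoundedGT.induction generalizing M with
  | _ J ih =>
    haveI := hfin
    by_cases hss : Subsingleton Γ(M, ⊤)
    · exact ⟨0, I.zero_mem, fun m => Subsingleton.elim _ _⟩
    have hex : ∃ x ∈ I, ∀ m : Γ(M, ⊤), ψ x • m = 0 → m = 0 := by
      by_contra hno
      push Not at hno
      have hsub : (I : Set B) ⊆ ⋃ p ∈ associatedPrimes B Γ(M, ⊤), (p : Set B) := by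
        intro x hx
        rw [biUnion_associatedPrimes_eq_zero_divisors]
        obtain ⟨m, hm, hm0⟩ := hno x hx
        exact ⟨m, hm0, hm⟩
      obtain ⟨p, hp, hIp⟩ := (Ideal.subset_union_prime_finite (associatedPrimes.finite B Γ(M, ⊤))
        ⊤ ⊤ fun p hp _ _ => IsAssociatedPrime.isPrime hp).1 hsub
      obtain ⟨hpp, m, rfl⟩ := isAssociatedPrime_iff.1 hp
      have hm : m = 0 := eq_zero_of_forall_smul hcov m fun g hg =>
        Submodule.mem_colon_singleton.1 (hIp hg)
      apply hpp.ne_top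
      rw [Ideal.eq_top_iff_one, Submodule.mem_colon_singleton, hm, smul_zero]
      exact Submodule.zero_mem _
    obtain ⟨x, hxI, hx⟩ := hex
    let φ : M ⟶ M := scal M (ψ x)
    have happ (O : V.Opens) : Function.Injective (φ.app O) :=
      (injective_iff_map_eq_zero (φ.app O).hom).2 fun s hs =>
        regular_of_top hcov hx s hs
    haveI : Mono φ :=
      ⟨fun a b hab => Scheme.Modules.hom_ext _ _ fun O => ConcreteCategory.ext_apply fun s =>
        happ O (show (φ.app O) (a.app O s) = (φ.app O) (b.app O s) from congrArg (fun ψ' => (ψ'.app O) s) hab)⟩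
    let S : ShortComplex V.Modules := ShortComplex.mk φ (cokernel.π φ) (cokernel.condition φ)
    have hS : S.ShortExact :=
      { exact := ShortComplex.exact_cokernel φ
        mono_f := inferInstanceAs (Mono φ)
        epi_g := coequalizer.π_epi }
    haveI hq : (cokernel φ).IsQuasicoherent := QCoh.Closure.isQCoh_cokernel φ
    have hsurj : Function.Surjective (S.g.app ⊤) :=
      CohDelta.SerreRel.app_surjective_of_h1 hS ⊤ (hac 0)
    have hac' : Acyc (cokernel φ) := acyc_X₃ hS hac hac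
    letI := Module.compHom Γ(cokernel φ, ⊤) ψ
    have hlin (b : B) (m : Γ(M, ⊤)) : S.g.app ⊤ (b • m) = b • S.g.app ⊤ m :=
      S.g.app_smul (ψ b) m
    let π : Γ(M, ⊤) →ₗ[B] Γ(cokernel φ, ⊤) :=
      { toFun := S.g.app ⊤
        map_add' := map_add _
        map_smul' := hlin }
    have hφ (m : Γ(M, ⊤)) : φ.app ⊤ m = x • m := by
      rw [scal_app, resR_self]
      rfl
    have hker (m : Γ(M, ⊤)) (hm : π m = 0) : ∃ n, m = x • n := by
      obtain ⟨n, hn⟩ := QCoh.Closure.sections_exact (S := S) hS.exact ⊤ m hm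
      exact ⟨n, hn.symm.trans (hφ n)⟩
    have hπx (m : Γ(M, ⊤)) : π (x • m) = 0 := by
      rw [← hφ]
      exact congr($(S.zero).app ⊤ m)
    have hlt : J < Module.annihilator B Γ(cokernel φ, ⊤) := by
      subst hJ
      refine lt_of_le_of_ne (LinearMap.annihilator_le_of_surjective π hsurj) fun he => ?_
      have hxmem : x ∈ Module.annihilator B Γ(cokernel φ, ⊤) :=
        Module.mem_annihilator.2 fun y => by
          obtain ⟨m, rfl⟩ := hsurj y
          exact (map_smul π x m).symm.trans (hπx m)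
      rw [← he, Module.mem_annihilator] at hxmem
      exact hss (subsingleton_of_forall_eq 0 fun m => hx m (hxmem m))
    obtain ⟨a, ha, ha'⟩ := ih _ hlt (cokernel φ) hac' (Module.Finite.of_surjective π hsurj) rfl
    have hle : (⊤ : Submodule B Γ(M, ⊤)) ≤ I • ⊤ := by
      intro m _
      have h0 : π (m - a • m) = 0 := by
        rw [map_sub, map_smul]
        refine (?_ : _ = (1 - ψ a) • π m).trans (ha' _)
        rw [sub_smul, one_smul]
        rfl
      obtain ⟨n, hn⟩ := hker _ h0
      rw [sub_eq_iff_eq_add] at hn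
      rw [hn]
      exact Submodule.add_mem _ (Submodule.smul_mem_smul hxI trivial)
        (Submodule.smul_mem_smul ha trivial)
    obtain ⟨c, hc, hc'⟩ :=
      Submodule.exists_mem_and_smul_eq_self_of_fg_of_le_smul I ⊤ Module.Finite.fg_top hle
    refine ⟨c, hc, fun m => ?_⟩
    rw [sub_smul, one_smul, sub_eq_zero]
    exact (hc' m trivial).symm

end Groth.Agent.Lib.AcycFin27.Key
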