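import Groth.Agent.Lib.AcycFin27.Key
import Mathlib.AlgebraicGeometry.ZariskisMainTheorem
import Mathlib.RingTheory.Polynomial.Basic

/-!
# The open immersion of Zariski's main theorem is closed for acyclic coherent modules
-/

set_option autoImplicit false
set_option linter.style.haveILetI false

universe u

open CategoryTheory CategoryTheory.Limits AlgebraicGeometry Opposite TopologicalSpace
open CategoryTheory.Abelian
open Groth.Agent.Lib
open Groth.Agent.Lib.ZarCoh.Basic Groth.Agent.Lib.CohDelta.Basic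
open Groth.Agent.Lib.QCoh.Localizing
open Groth.Agent.Lib.AcycFin27

namespace Groth.Agent.Lib.AcycFin27.Main

variable {V X : Scheme.{u}}

/-- Vanishing of higher direct images gives vanishing of cohomology over affines. -/
theorem subsingleton_ext (f : V ⟶ X) [QuasiCompact f] [QuasiSeparated f]
    [HasInjectiveResolutions V.Modules] (K : V.Modules) [K.IsQuasicoherent] (p : ℕ)
    (h0 : IsZero ((Coh.Rpush f (p + 1)).obj K)) {U : X.Opens} (hU : IsAffineOpen U) :
    Subsingleton (Ext.{u} (Zs.obj (f ⁻¹ᵁ U)) (Coh.toAb K) (p + 1)) := by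
  let I : InjectiveResolution K := injectiveResolution K
  haveI : (CohDelta.Syzygy.Z I 0).IsQuasicoherent :=
    ObjectProperty.prop_of_iso (SheafOfModules.isQuasicoherent (R := V.ringCatSheaf))
      (CohDelta.Syzygy.augIso I) inferInstance
  obtain ⟨i⟩ := CohDelta.Syzygy.nonempty_rightDerived_iso I f p
  haveI : Subsingleton Γ(CohDelta.Syzygy.R I f p, U) :=
    subsingleton_of_forall_eq 0 fun x ↦ congr(($((h0.of_iso i.symm).eq_of_src (𝟙 _) 0)).app U x)
  have hZ : Subsingleton (Ext.{u} (Zs.obj (f ⁻¹ᵁ U)) (Coh.toAb (CohDelta.Syzygy.Z I 0)) (p + 1)) :=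
    (CohDelta.QCohR.e_bijective f I p hU).1.subsingleton
  exact Groth.Agent.H34.HOne.ext_of_iso _ (p + 1)
    ((abF V).mapIso (CohDelta.Syzygy.augIso I)).symm hZ

/-- Functions on an open, as functions on the open subscheme. -/
noncomputable def τ (O : V.Opens) : Γ(V, O) →+* Γ((O : Scheme.{u}), ⊤) :=
  (O.ι.appIso ⊤).hom.hom.comp (resR (le_of_eq O.ι_image_top))

lemma inv_τ (O : V.Opens) (c : Γ(V, O)) :
    (O.ι.appIso ⊤).inv (τ O c) = resR (le_of_eq O.ι_image_top) c :=
  congr($((O.ι.appIso ⊤).hom_inv_id) _)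

lemma image_basicOpen_τ (O : V.Opens) (c : Γ(V, O)) :
    O.ι ''ᵁ (O : Scheme.{u}).basicOpen (τ O c) = V.basicOpen c := by
  rw [Scheme.image_basicOpen, inv_τ, resR]
  refine (Scheme.basicOpen_res _ _ _).trans (inf_eq_right.2 ?_)
  rw [O.ι_image_top]
  exact V.basicOpen_le c

theorem isClosed_range {X' : Scheme.{u}} [IsNoetherian V] [IsNoetherian X] (j : V ⟶ X')
    (π : X' ⟶ X) [IsOpenImmersion j] [IsAffineHom π]
    [QuasiCompact (j ≫ π)] [QuasiSeparated (j ≫ π)] [HasInjectiveResolutions V.Modules]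
    (K : V.Modules) (hK : Coh.IsCoh K) (hsupp : CohB1.support K = Set.univ)
    (hpush : Coh.IsCoh ((Coh.push (j ≫ π)).obj K))
    (hvan : ∀ q : ℕ, 0 < q → IsZero ((Coh.Rpush (j ≫ π) q).obj K)) :
    IsClosed (Set.range j) := by
  rw [← isOpen_compl_iff, isOpen_iff_forall_mem_open]
  intro p hp
  obtain ⟨U, hU, hpU, -⟩ :=
    exists_isAffineOpen_mem_and_subset (U := (⊤ : X.Opens)) (x := π p) trivial
  let W : X'.Opens := π ⁻¹ᵁ U
  have hW : IsAffineOpen W := hU.preimage π
  let O : V.Opens := j ⁻¹ᵁ W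
  have hO : IsCompact (O : Set V) :=
    (j ≫ π).isCompact_preimage hU.isCompact
  haveI : CompactSpace (O : Scheme.{u}) := isCompact_iff_compactSpace.mp hO
  haveI : IsLocallyNoetherian (O : Scheme.{u}) := inferInstance
  haveI : QuasiSeparatedSpace (O : Scheme.{u}) := inferInstance
  haveI := hK.1
  haveI hKO : (K.restrict O.ι).IsQuasicoherent := inferInstance
  -- a finite family of functions on `W` cutting out affine pieces of `O`
  have hloc : ∀ x : O, ∃ g : Γ(X', W), j x.1 ∈ X'.basicOpen g ∧ X'.basicOpen g ≤ j.opensRange := by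
    intro x
    obtain ⟨g, hg, hxg⟩ := hW.exists_basicOpen_le (V := j.opensRange) ⟨j x.1, x.1, rfl⟩ x.2
    exact ⟨g, hxg, hg⟩
  choose g hxg hg using hloc
  obtain ⟨t, ht⟩ := hO.elim_finite_subcover (fun x : O => ((j ⁻¹ᵁ X'.basicOpen (g x) : V.Opens) : Set V))
    (fun x => (j ⁻¹ᵁ X'.basicOpen (g x)).isOpen)
    (fun y hy => Set.mem_iUnion.2 ⟨⟨y, hy⟩, hxg ⟨y, hy⟩⟩)
  let A : Type u := Γ(X, U)
  haveI : IsNoetherianRing A := IsLocallyNoetherian.component_noetherian ⟨U, hU⟩
  let ev : MvPolynomial t A →+* Γ(X', W) :=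
    MvPolynomial.eval₂Hom (π.app U).hom (fun i => g i.1)
  let σ : Γ(X', W) →+* Γ((O : Scheme.{u}), ⊤) := (τ O).comp (j.app W).hom
  let ψ : MvPolynomial t A →+* Γ((O : Scheme.{u}), ⊤) := σ.comp ev
  let I : Ideal (MvPolynomial t A) := Ideal.span (Set.range MvPolynomial.X)
  have hσ (c : Γ(X', W)) :
      O.ι ''ᵁ (O : Scheme.{u}).basicOpen (σ c) = j ⁻¹ᵁ X'.basicOpen c := by
    rw [Scheme.preimage_basicOpen]
    exact image_basicOpen_τ O _
  have hevX (i : t) : ev (MvPolynomial.X i) = g i.1 := MvPolynomial.eval₂Hom_X' _ _ i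
  have hcov : Key.Cov ψ I := by
    intro y
    obtain ⟨x, hx, hyx⟩ := Set.mem_iUnion₂.1 (ht (SetLike.mem_coe.2 y.2))
    refine ⟨MvPolynomial.X ⟨x, hx⟩, Ideal.subset_span ⟨_, rfl⟩, ?_, ?_⟩
    · have h1 : O.ι y ∈ O.ι ''ᵁ (O : Scheme.{u}).basicOpen (σ (g x)) := by
        rw [hσ]
        exact hyx
      obtain ⟨y', hy', he⟩ := h1
      obtain rfl := O.ι.isOpenEmbedding.injective he
      show y' ∈ (O : Scheme.{u}).basicOpen (σ (ev _))
      rw [hevX]
      exact hy'
    · show IsAffineOpen ((O : Scheme.{u}).basicOpen (σ (ev _)))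
      rw [hevX, ← Scheme.Hom.isAffineOpen_iff_of_isOpenImmersion O.ι, hσ]
      exact (hW.basicOpen (g x)).preimage_of_isOpenImmersion j (hg x)
  have hac : Key.Acyc (K.restrict O.ι) := fun q => by
    have h1 := subsingleton_ext (j ≫ π) K q (hvan (q + 1) q.succ_pos) hU
    haveI : Subsingleton (CohTop.HU (Coh.toAb K) (q + 1) O) := h1
    haveI : Subsingleton (Coh.HHon V K O (q + 1)) := (CohDelta.Basic.hU K O (q + 1)).toEquiv.subsingleton
    exact (ZarCoh.Compare.hTop (Coh.toAb (K.restrict O.ι)) (q + 1)).symm.toEquiv.subsingleton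
  have hfin : letI := Module.compHom Γ(K.restrict O.ι, ⊤) ψ;
      Module.Finite (MvPolynomial t A) Γ(K.restrict O.ι, ⊤) := by
    letI := Module.compHom Γ(K.restrict O.ι, ⊤) ψ
    obtain ⟨s, hs⟩ := (CohBasics.Closure.finite_sections hpush hU).fg_top
    let r : Γ(K, O) →+ Γ(K.restrict O.ι, ⊤) := (K.presheaf.map (eqToHom O.ι_image_top).op).hom
    have hr : Function.Surjective r :=
      (ConcreteCategory.bijective_of_isIso (K.presheaf.map (eqToHom O.ι_image_top).op)).2
    classical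
    refine ⟨⟨s.image (r : Γ(K, O) → Γ(K.restrict O.ι, ⊤)), eq_top_iff.2 fun m htop => ?_⟩⟩
    clear htop
    obtain ⟨m, rfl⟩ := hr m
    have hm : (m : Γ((Coh.push (j ≫ π)).obj K, U)) ∈
        Submodule.span Γ(X, U) (s : Set Γ((Coh.push (j ≫ π)).obj K, U)) := by
      rw [hs]; trivial
    induction hm using Submodule.span_induction with
    | mem x hx => exact Submodule.subset_span (Finset.mem_coe.2 (Finset.mem_image_of_mem _ hx))
    | zero => exact (map_zero r).symm ▸ Submodule.zero_mem _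
    | add x y _ _ hx hy => exact (map_add r x y).symm ▸ Submodule.add_mem _ hx hy
    | smul a x _ hx =>
      let c : Γ(V, O) := j.app W (π.app U a)
      let x' : Γ(K, O) := x
      have e : r (c • x') = (MvPolynomial.C a : MvPolynomial t A) • r x' := by
        refine (K.map_smul (eqToHom O.ι_image_top) c x').trans ?_
        have h1 : (O.ι.appIso ⊤).inv (σ (ev (MvPolynomial.C a))) =
            resR (le_of_eq O.ι_image_top) c := by
          rw [show ev (MvPolynomial.C a) = π.app U a from MvPolynomial.eval₂Hom_C _ _ a]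
          exact inv_τ O c
        exact (congrArg (fun d : Γ(V, O.ι ''ᵁ ⊤) =>
          d • (K.presheaf.map (eqToHom O.ι_image_top).op x' : Γ(K, O.ι ''ᵁ ⊤))) h1).symm
      exact (congrArg (· ∈ Submodule.span (MvPolynomial t A) _) e).mpr
        (Submodule.smul_mem _ (MvPolynomial.C a) hx)
  obtain ⟨a, ha, hkill⟩ := Key.exists_one_sub_smul_eq_zero ψ I hcov (K.restrict O.ι) hac hfin
  -- `1 - a` vanishes on `O`
  have hvanish : ∀ y : O, y ∉ (O : Scheme.{u}).basicOpen (σ (1 - ev a)) := by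
    intro y hy
    have hne : ¬ Subsingleton (K.presheaf.stalk (y : V)) := by
      have : (y : V) ∈ CohB1.support K := hsupp ▸ Set.mem_univ _
      exact this
    refine hne (subsingleton_of_forall_eq 0 fun z => ?_)
    obtain ⟨U', hyU', s, rfl⟩ := TopCat.Presheaf.exists_germ_eq K.presheaf z
    let O' : (O : Scheme.{u}).Opens := O.ι ⁻¹ᵁ U' ⊓ (O : Scheme.{u}).basicOpen (σ (1 - ev a))
    have hO' : O.ι ''ᵁ O' ≤ U' := (O.ι.image_mono inf_le_left).trans (O.ι.image_preimage_le U')
    have hy' : (y : V) ∈ O.ι ''ᵁ O' := ⟨y, ⟨hyU', hy⟩, rfl⟩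
    have h0 := Key.smul_eq_zero_of_top hcov
      (M := K.restrict O.ι) (r := σ (1 - ev a)) (fun m => by rw [map_sub, map_one]; exact hkill m)
      (O := O') (res K hO' s)
    have hu : IsUnit (resR (le_top (a := O')) (σ (1 - ev a))) := by
      rw [← resR_resR ((O : Scheme.{u}).basicOpen_le _) inf_le_right]
      exact (Key.unit_res _).map _
    have h1 : (show Γ(K.restrict O.ι, O') from res K hO' s) = 0 := hu.smul_eq_zero.1 h0
    rw [← TopCat.Presheaf.germ_res_apply K.presheaf (homOfLE hO') (y : V) hy' s]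
    exact (congrArg _ h1).trans (map_zero _)
  -- `a` only is invertible on the range of `j`
  have hsub : ∀ q : X', ∀ hq : q ∈ W, q ∈ X'.basicOpen (ev a) → q ∈ Set.range j := by
    intro q hq hqa
    by_contra hqr
    have hle : I ≤ (IsLocalRing.maximalIdeal (X'.presheaf.stalk q)).comap
        ((X'.presheaf.germ W q hq).hom.comp ev) := by
      refine Ideal.span_le.2 ?_
      rintro _ ⟨i, rfl⟩
      rw [SetLike.mem_coe, Ideal.mem_comap, RingHom.comp_apply, hevX, IsLocalRing.mem_maximalIdeal,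
        mem_nonunits_iff]
      exact fun h => hqr (hg i.1 ((X'.mem_basicOpen _ _ hq).2 h))
    exact hle ha ((X'.mem_basicOpen _ _ hq).1 hqa)
  have hpW : p ∈ W := hpU
  refine ⟨X'.basicOpen (1 - ev a), ?_, (X'.basicOpen (1 - ev a)).isOpen, ?_⟩
  · rintro _ hq ⟨x, rfl⟩
    have hxO : x ∈ O := X'.basicOpen_le _ hq
    have h1 : x ∈ O.ι ''ᵁ (O : Scheme.{u}).basicOpen (σ (1 - ev a)) := by
      rw [hσ]
      exact hq
    obtain ⟨y, hy, -⟩ := h1
    exact hvanish y hy
  · rw [SetLike.mem_coe, X'.mem_basicOpen _ _ hpW, map_sub, map_one]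
    refine (IsLocalRing.isUnit_or_isUnit_one_sub_self _).resolve_left fun h => hp ?_
    exact hsub p hpW ((X'.mem_basicOpen _ _ hpW).2 h)

end Groth.Agent.Lib.AcycFin27.Main
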